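import Groth.Agent.H28.Blow1.Cover
import Groth.Agent.Synt29.BlowPts
import Groth.Agent.AmpleX.CounitEpi
import Groth.Agent.OmegaLib.IdealMod
import Groth.Agent.InvX.GenLocusPull
import Groth.Agent.InvX.Tensor
import Groth.Agent.S3572

/-!
# The projection from a point on the blowing up
-/

set_option autoImplicit false
set_option linter.style.haveILetI false
set_option linter.unusedSectionVars false
set_option backward.isDefEq.respectTransparency false
set_option backward.isDefEq.respectTransparency.types false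
set_option maxHeartbeats 1000000

universe u

open CategoryTheory CategoryTheory.Limits AlgebraicGeometry TopologicalSpace Opposite

noncomputable section

namespace Groth.Agent.H28.Blow1

open Groth.Agent Groth.Agent.H23.PicMul

variable {k : Type u} [Field k] {n : ℕ} {X : Scheme.{u}} {π : X ⟶ CohB1.ProjSpace n k}
  {p : ↥(CohB1.ProjSpace n k)} (hp : IsClosed ({p} : Set ↥(CohB1.ProjSpace n k)))
  (hπ : BlowUp.IsBlowUp π (Synt29.BlowPts.J ({p} : Set _) hp))

/-- A unit multiple of a frame which is a frame. -/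
theorem isUnit_of_frame {Y : Scheme.{u}} {M : Y.Modules} {U : Y.Opens} {e : Γ(M, U)} (he : InvX.IsFrame e)
    {g : Γ(Y, U)} (hge : InvX.IsFrame (g • e)) : IsUnit g := by
  obtain ⟨w, hw⟩ := hge.exists_coord le_rfl e
  rw [AModX.res_self, ← mul_smul] at hw
  have h1 : (1 : Γ(Y, U)) = w * g := he.coord_unique le_rfl (by rw [one_smul, AModX.res_self]; exact hw)
  exact IsUnit.of_mul_eq_one_right _ h1.symm

include hπ in
/-- The pull-back of the forms through the point, divided by the exceptional divisor, generate. -/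
theorem exists_generated [IsAlgClosed k] :
    ∃ s : Fin (n + 1) → Γ(CohB1.tensorMod (ClSub.idealMod (BlowUp.exceptional π (Synt29.BlowPts.J ({p} : Set _) hp)))
      (Synt29.BlowPts.pO π ((1 : ℕ) : ℤ)), ⊤),
      ProjUP.GeneratedBy _ s := by
  let Jp := Synt29.BlowPts.J ({p} : Set _) hp
  let I := BlowUp.exceptional π Jp
  let L := Synt29.BlowPts.pO π ((1 : ℕ) : ℤ)
  let N := CohB1.tensorMod (ClSub.idealMod I) L
  let φ : N ⟶ L := AmpleX.idealTwist (ClSub.idealModι I) L
  have hI : PicF.IsInvertible (ClSub.idealMod I) := H26.IdealCl.isInvertible_idealMod hπ.1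
  obtain ⟨u, hu⟩ := exists_cover p hp
  -- local data
  have hdata : ∀ x : X, ∃ (W : X.Opens) (_ : x ∈ W) (E : Γ(N, W)) (g : Γ(X, W)) (e : Γ(L, W))
      (a : Fin (n + 1) → Γ(X, W)), InvX.IsFrame E ∧ InvX.IsFrame e ∧
      (∀ (W' : X.Opens) (h : W' ≤ W) (c : Γ(X, W')), c * AModX.resR h g = 0 → c = 0) ∧
      φ.app W E = g • e ∧
      (∀ j, AModX.res L (le_top : W ≤ ⊤) (InvX.pullElt π (u j)) = (a j * g) • e) ∧
      Ideal.span (Set.range a) = ⊤ := by
    intro x
    obtain ⟨V, hxV, e₀, r, he₀, hr, hspan⟩ := hu (π x)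
    obtain ⟨U, hxU, κ₀, hκ₀⟩ := InvX.exists_frame hI x
    obtain ⟨W, hW, hxW, hWU⟩ := exists_isAffineOpen_mem_and_subset (show x ∈ π ⁻¹ᵁ V.1 ⊓ U from ⟨hxV, hxU⟩)
    have hWV : W ≤ π ⁻¹ᵁ V.1 := fun z hz => (hWU hz).1
    have hWU' : W ≤ U := fun z hz => (hWU hz).2
    let κ : Γ(ClSub.idealMod I, W) := AModX.res _ hWU' κ₀
    have hκ : InvX.IsFrame κ := hκ₀.res _
    let g : Γ(X, W) := OmegaSh.idealSect I W κ
    have hê : InvX.IsFrame (InvX.pullElt π e₀) := InvX.isFrame_pullElt π he₀
    let e : Γ(L, W) := AModX.res L hWV (InvX.pullElt π e₀)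
    have he : InvX.IsFrame e := hê.res _
    have hg : ∀ (W' : X.Opens) (h : W' ≤ W) (c : Γ(X, W')), c * AModX.resR h g = 0 → c = 0 := by
      intro W' h c hc
      have h1 : OmegaSh.idealSect I W' (c • AModX.res _ h κ) = 0 := by
        rw [OmegaLib.idealSect_smul, show OmegaSh.idealSect I W' (AModX.res _ h κ) = AModX.resR h g from
          OmegaLib.idealSect_map I h κ]
        exact hc
      have h2 : c • AModX.res _ h κ = (0 : Γ(X, W')) • AModX.res _ h κ := by
        rw [zero_smul]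
        exact OmegaLib.idealSect_injective I W' (h1.trans (map_zero _).symm)
      exact hκ.coord_unique h h2
    have hgen : ∀ z, z ∈ I.ideal ⟨W, hW⟩ → ∃ c, z = c * g := fun z hz => by
      obtain ⟨y, hy⟩ := OmegaLib.exists_of_mem I ⟨W, hW⟩ z hz
      obtain ⟨c, hc⟩ := hκ.exists_coord le_rfl y
      rw [AModX.res_self] at hc
      exact ⟨c, by rw [← hy, hc, OmegaLib.idealSect_smul]⟩
    have hideal : I.ideal ⟨W, hW⟩ = Ideal.span (Set.range fun j => π.appLE V.1 W hWV (r j)) := by
      show (Jp.comap π).ideal ⟨W, hW⟩ = _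
      rw [ModPairLib.ideal_comap Jp π V ⟨W, hW⟩ hWV, show Jp.ideal V = _ from hspan.symm, Ideal.map_span,
        ← Set.range_comp]
      rfl
    have hmem : ∀ j, π.appLE V.1 W hWV (r j) ∈ I.ideal ⟨W, hW⟩ := fun j => by
      rw [hideal]; exact Ideal.subset_span ⟨j, rfl⟩
    choose a ha using fun j => hgen _ (hmem j)
    refine ⟨W, hxW, InvX.tmul κ e, g, e, a, InvX.isFrame_tmul hκ he, he, hg, ?_, fun j => ?_, ?_⟩
    · exact AmpleX.idealTwist_tmul (ClSub.idealModι I) L κ e
    · have h1 : AModX.res L (π.preimage_mono (le_top : V.1 ≤ ⊤)) (InvX.pullElt π (u j)) =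
          π.app V.1 (r j) • InvX.pullElt π e₀ := by
        rw [InvX.res_pullElt π (le_top : V.1 ≤ ⊤), hr j, InvX.pullElt_smul]
      have h2 := congrArg (AModX.res L hWV) h1
      rw [AModX.res_smul, AModX.res_res] at h2
      refine h2.trans ?_
      rw [← ha j]
      rfl
    · have hgI : g ∈ I.ideal ⟨W, hW⟩ := OmegaLib.idealSect_mem I ⟨W, hW⟩ κ
      rw [hideal, Ideal.mem_span_range_iff_exists_fun] at hgI
      obtain ⟨c, hc⟩ := hgI
      refine (Ideal.eq_top_iff_one _).2 ?_
      rw [Ideal.mem_span_range_iff_exists_fun]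
      refine ⟨c, sub_eq_zero.1 (hg W le_rfl _ ?_)⟩
      rw [AModX.resR_self, sub_mul, one_mul, Finset.sum_mul, sub_eq_zero]
      exact (Finset.sum_congr rfl fun j _ => by rw [mul_assoc, ← ha j]).trans hc
  choose W hxW E g e a hE he hg hφ hres hspan using hdata
  -- the preimages are unique on each of the opens
  have huniq : ∀ (x : X) (W' : X.Opens) (h : W' ≤ W x) (y y' : Γ(N, W')),
      φ.app W' y = φ.app W' y' → y = y' := by
    intro x W' h y y' hy
    obtain ⟨c, hc⟩ := (hE x).exists_coord h y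
    obtain ⟨c', hc'⟩ := (hE x).exists_coord h y'
    have h1 : ∀ b : Γ(X, W'), φ.app W' (b • AModX.res N h (E x)) =
        (b * AModX.resR h (g x)) • AModX.res L h (e x) := fun b => by
      rw [Scheme.Modules.Hom.app_smul, AModX.app_res, hφ x, AModX.res_smul, mul_smul]
    rw [hc, hc', h1, h1] at hy
    have h2 := (he x).coord_unique h hy
    rw [hc, hc', show c = c' from sub_eq_zero.1 (hg x W' h _ (by rw [sub_mul, h2, sub_self]))]
  have hs : ∀ j, ∃ s : Γ(N, ⊤), ∀ x, AModX.res N (le_top : W x ≤ ⊤) s = a x j • E x := fun j => by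
    have hval : ∀ x, φ.app (W x) (a x j • E x) = AModX.res L (le_top : W x ≤ ⊤) (InvX.pullElt π (u j)) := fun x => by
      rw [Scheme.Modules.Hom.app_smul, hφ x, hres x j, mul_smul]
    obtain ⟨s, hs, -⟩ := AModX.existsUnique_glue (M := N) W (fun _ => le_top) (fun x _ => ⟨x, hxW x⟩)
      (fun x => a x j • E x) (fun x y => huniq x _ inf_le_left _ _ (by
        rw [AModX.app_res, AModX.app_res, hval x, hval y, AModX.res_res, AModX.res_res]))
    exact ⟨s, hs⟩
  choose s hs using hs
  refine ⟨s, fun x => ?_⟩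
  refine eq_top_iff.2 fun z _ => ?_
  obtain ⟨c, rfl⟩ := ((hE x).germ_bijective (hxW x)).2 z
  refine Submodule.smul_mem _ c ?_
  have h1 : (1 : Γ(X, W x)) ∈ Ideal.span (Set.range (a x)) := by rw [hspan x]; trivial
  rw [Ideal.mem_span_range_iff_exists_fun] at h1
  obtain ⟨b, hb⟩ := h1
  have h2 : E x = ∑ j, b j • AModX.res N (le_top : W x ≤ ⊤) (s j) := by
    calc E x = (∑ j, b j * a x j) • E x := by rw [hb, one_smul]
      _ = _ := by rw [Finset.sum_smul]; exact Finset.sum_congr rfl fun j _ => by rw [hs j x, mul_smul]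
  rw [h2]
  show (N.presheaf.germ (W x) x (hxW x)).hom _ ∈ _
  rw [map_sum]
  refine Submodule.sum_mem _ fun j _ => ?_
  rw [QCoh.germ_smul' N (hxW x)]
  refine Submodule.smul_mem _ _ (Submodule.subset_span ⟨j, ?_⟩)
  exact (InvX.germ_res' (le_top : W x ≤ ⊤) (hxW x) (s j)).symm

include hπ in
/-- The projection from the point. -/
theorem exists_proj [IsAlgClosed k] :
    ∃ q : X ⟶ CohB1.ProjSpace n k, Nonempty ((Scheme.Modules.pullback q).obj (Twist.twistProjSpace n k 1) ≅
      CohB1.tensorMod (ClSub.idealMod (BlowUp.exceptional π (Synt29.BlowPts.J ({p} : Set _) hp)))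
        (Synt29.BlowPts.pO π ((1 : ℕ) : ℤ))) := by
  obtain ⟨s, hs⟩ := exists_generated hp hπ
  obtain ⟨q, -, τ, -⟩ := S3572.result n (π ≫ CohB1.ProjSpace.toSpec n k) _
    (InvX.isInvertible_tensorMod (H26.IdealCl.isInvertible_idealMod hπ.1)
      (PicClLib.isInvertible_pullback π (Synt29.BlowPts.isInvertible_twist _))) s hs
  exact ⟨q, ⟨τ⟩⟩

end Groth.Agent.H28.Blow1

end
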