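import Groth.Agent.Synt29.PnJets

/-!
# Linear forms at a closed point of projective space generating the ideal of the point
-/

set_option autoImplicit false
set_option linter.style.haveILetI false
set_option linter.unusedSectionVars false
set_option backward.isDefEq.respectTransparency false
set_option backward.isDefEq.respectTransparency.types false
set_option maxHeartbeats 1000000

universe u

open CategoryTheory AlgebraicGeometry TopologicalSpace Opposite HomogeneousLocalization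

noncomputable section

namespace Groth.Agent.H28.Blow1

open Groth.Agent Groth.Agent.ZetaLib

variable {n : ℕ} {k : Type u} [Field k]

local notation "𝒜" => CohB1.polyGrading n k
local notation "T" => (MvPolynomial.X : Fin (n + 1) → MvPolynomial (Fin (n + 1)) k)

/-- The coefficient of a linear form on a standard chart. -/
theorem res_form (i : Fin (n + 1)) (F : MvPolynomial (Fin (n + 1)) k) (hF : F ∈ 𝒜 1)
    (hTi : T i ^ 1 ∈ 𝒜 1) :
    AModX.res (Twist.twist 𝒜 ((1 : ℕ) : ℤ)) (le_top : Proj.basicOpen 𝒜 (T i) ≤ ⊤) (Twist.globalOf 𝒜 ⟨F, hF⟩) =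
      (Proj.basicOpenIsoAway 𝒜 (T i) (X_mem_one n k i) Nat.one_pos).commRingCatIsoToRingEquiv (dehom n k i F) •
        AModX.res (Twist.twist 𝒜 ((1 : ℕ) : ℤ)) (le_top : Proj.basicOpen 𝒜 (T i) ≤ ⊤)
          (Twist.globalOf 𝒜 ⟨T i ^ 1, hTi⟩) := by
  refine Subtype.ext (funext fun x => Subtype.ext ?_)
  refine Eq.trans ?_ (Twist.coe_smul_val _ x.1 _ _).symm
  obtain ⟨N, num, hnum, hN⟩ := HomogeneousLocalization.Away.mk_surjective 𝒜 (X_mem_one n k i) (dehom n k i F)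
  have hval := val_dehom_mul n k i (show F.IsHomogeneous 1 from hF)
  rw [← hN, HomogeneousLocalization.Away.val_mk] at hval
  show (Localization.mk F _ : Twist.Loc 𝒜 x.1) =
    (((Proj.awayToSection 𝒜 (T i)).hom (dehom n k i F)).1 x).val * Localization.mk (T i ^ 1) _
  rw [← hN]
  erw [TwistPull17.awayToSection_val (X_mem_one n k i) hnum x]
  rw [← map_pow, ← Localization.mk_one_eq_algebraMap, ← Localization.mk_one_eq_algebraMap,
    Localization.mk_mul, Localization.mk_eq_mk_iff, Localization.r_iff_exists] at hval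
  obtain ⟨⟨t, ⟨m, rfl⟩⟩, ht⟩ := hval
  rw [Localization.mk_mul, Localization.mk_eq_mk_iff, Localization.r_iff_exists]
  refine ⟨⟨T i ^ m, TwistX.notMem_pow x.2 m⟩, ?_⟩
  simp only [Submonoid.coe_mul, Submonoid.coe_one, mul_one] at ht ⊢
  exact ht.symm

/-- A point is cut out by linear forms: there are global linear forms whose coefficients on suitable
affine neighbourhoods generate the ideal of the point. -/
theorem exists_cover [IsAlgClosed k] (p : ↥(CohB1.ProjSpace n k))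
    (hp : IsClosed ({p} : Set ↥(CohB1.ProjSpace n k))) :
    ∃ u : Fin (n + 1) → Γ(Twist.twistProjSpace n k ((1 : ℕ) : ℤ), ⊤), ∀ x : ↥(CohB1.ProjSpace n k),
      ∃ (V : (CohB1.ProjSpace n k).affineOpens) (_ : x ∈ V.1)
        (e : Γ(Twist.twistProjSpace n k ((1 : ℕ) : ℤ), V.1)) (r : Fin (n + 1) → Γ(CohB1.ProjSpace n k, V.1)),
        InvX.IsFrame e ∧ (∀ j, AModX.res _ (le_top : V.1 ≤ ⊤) (u j) = r j • e) ∧
          Ideal.span (Set.range r) = (Scheme.IdealSheafData.vanishingIdeal ⟨{p}, hp⟩).ideal V := by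
  obtain ⟨i, hi⟩ := Opens.mem_iSup.1 ((AmpleEmbed.iSup_basicOpen_X n k).ge (trivial : p ∈ (⊤ : Opens _)))
  have hT : ∀ j, T j ∈ 𝒜 1 := X_mem_one n k
  let V₀ : (CohB1.ProjSpace n k).affineOpens :=
    ⟨Proj.basicOpen 𝒜 (T i), Proj.isAffineOpen_basicOpen 𝒜 _ (hT i) Nat.one_pos⟩
  let Φ : Away 𝒜 (T i) ≃+* Γ(CohB1.ProjSpace n k, V₀.1) :=
    (Proj.basicOpenIsoAway 𝒜 (T i) (hT i) Nat.one_pos).commRingCatIsoToRingEquiv
  let P₀ := (V₀.2.primeIdealOf ⟨p, hi⟩).asIdeal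
  let M := P₀.comap Φ.toRingHom
  haveI : P₀.IsMaximal := V₀.2.primeIdealOf_isMaximal_of_isClosed ⟨p, hi⟩ hp
  haveI : M.IsMaximal := Ideal.comap_isMaximal_of_surjective Φ.toRingHom Φ.surjective
  obtain ⟨a, ha⟩ := Synt29.PnJets.exists_eval n k i M
  have hu : ∀ j, T j - MvPolynomial.C (a j) * T i ∈ 𝒜 1 := fun j =>
    ((MvPolynomial.isHomogeneous_X k j).sub
      (by simpa using (MvPolynomial.isHomogeneous_C _ (a j)).mul (MvPolynomial.isHomogeneous_X k i)) :
      MvPolynomial.IsHomogeneous _ 1)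
  let u : Fin (n + 1) → Γ(Twist.twistProjSpace n k ((1 : ℕ) : ℤ), ⊤) := fun j =>
    Twist.globalOf 𝒜 ⟨T j - MvPolynomial.C (a j) * T i, hu j⟩
  have hTi1 : T i ^ 1 ∈ 𝒜 1 := by simpa using hT i
  let e₀ : Γ(Twist.twistProjSpace n k ((1 : ℕ) : ℤ), V₀.1) :=
    AModX.res (Twist.twist 𝒜 ((1 : ℕ) : ℤ)) le_top (Twist.globalOf 𝒜 ⟨T i ^ 1, hTi1⟩)
  have he₀ : InvX.IsFrame e₀ := TwistX.isFrame_res_globalOf hTi1 (fun x => TwistX.notMem_pow x.2 1)
  let r₀ : Fin (n + 1) → Γ(CohB1.ProjSpace n k, V₀.1) := fun j => Φ (coord n k i j - base n k i (a j))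
  have hdeh : ∀ j, dehom n k i (T j - MvPolynomial.C (a j) * T i) = coord n k i j - base n k i (a j) := fun j => by
    simp [dehom, H23.PnChart.coord_self]
  have hres : ∀ j, AModX.res _ (le_top : V₀.1 ≤ ⊤) (u j) = r₀ j • e₀ := fun j => by
    refine (res_form i _ (hu j) hTi1).trans ?_
    rw [hdeh]
    rfl
  -- the coefficients generate the maximal ideal
  let I₀ : Ideal (Away 𝒜 (T i)) := Ideal.span (Set.range fun j => coord n k i j - base n k i (a j))
  have hI : I₀ = M := by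
    refine le_antisymm (Ideal.span_le.2 (by rintro _ ⟨j, rfl⟩; exact ha j)) fun r hr => ?_
    obtain ⟨F, hF, hrF⟩ := Synt29.PnJets.exists_form n k i I₀ a (fun j => Ideal.subset_span ⟨j, rfl⟩) 0 r
    rw [pow_one] at hrF
    obtain ⟨c, rfl⟩ : ∃ c : k, F = MvPolynomial.C c :=
      ⟨F.coeff 0, (MvPolynomial.totalDegree_eq_zero_iff_eq_C.1 (Nat.le_zero.1 hF.totalDegree_le))⟩
    have hcM : dehom n k i (MvPolynomial.C c) ∈ M := by
      have hle : I₀ ≤ M := Ideal.span_le.2 (by rintro _ ⟨j, rfl⟩; exact ha j)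
      have := sub_mem hr (hle hrF)
      rwa [sub_sub_cancel] at this
    have hc : c = 0 := by
      by_contra hc
      refine (Ideal.IsPrime.ne_top inferInstance : M ≠ ⊤) (Ideal.eq_top_of_isUnit_mem _ hcM ?_)
      exact ((isUnit_iff_ne_zero.2 hc).map MvPolynomial.C).map (dehom n k i)
    subst hc
    simpa using hrF
  have hJ : ∀ m, m ∈ (Scheme.IdealSheafData.vanishingIdeal ⟨{p}, hp⟩).ideal V₀ ↔ m ∈ P₀ := fun m => by
    rw [Scheme.IdealSheafData.vanishingIdeal_ideal, PrimeSpectrum.mem_vanishingIdeal]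
    refine ⟨fun h => h _ ?_, fun hm q hq => ?_⟩
    · exact V₀.2.fromSpec_primeIdealOf ⟨p, hi⟩
    · have hqp : V₀.2.fromSpec q = p := hq
      rw [V₀.2.fromSpec.isOpenEmbedding.injective (hqp.trans (V₀.2.fromSpec_primeIdealOf ⟨p, hi⟩).symm)]
      exact hm
  have hspan : Ideal.span (Set.range r₀) = (Scheme.IdealSheafData.vanishingIdeal ⟨{p}, hp⟩).ideal V₀ := by
    ext m
    rw [hJ]
    have h1 : Ideal.span (Set.range r₀) = I₀.map Φ.toRingHom := by
      rw [Ideal.map_span, ← Set.range_comp]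
      rfl
    rw [h1, hI]
    exact iff_of_eq (congrArg (fun Q : Ideal _ => m ∈ Q) (Ideal.map_comap_of_surjective Φ.toRingHom Φ.surjective P₀))
  refine ⟨u, fun x => ?_⟩
  by_cases hxp : x = p
  · subst hxp
    exact ⟨V₀, hi, e₀, r₀, he₀, hres, hspan⟩
  have htop : ∀ V : (CohB1.ProjSpace n k).affineOpens, p ∉ V.1 →
      (Scheme.IdealSheafData.vanishingIdeal ⟨{p}, hp⟩).ideal V = ⊤ := fun V hpV => by
    rw [Scheme.IdealSheafData.vanishingIdeal_ideal]
    have : V.2.fromSpec ⁻¹' ({p} : Set ↥(CohB1.ProjSpace n k)) = ∅ := by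
      ext q
      refine ⟨fun hq => hpV ?_, fun h => h.elim⟩
      rw [← show V.2.fromSpec q = p from hq]
      exact V.2.range_fromSpec.le ⟨q, rfl⟩
    show PrimeSpectrum.vanishingIdeal (V.2.fromSpec ⁻¹' ({p} : Set _)) = ⊤
    rw [this, PrimeSpectrum.vanishingIdeal_empty]
  have hpr : ∀ j, p ∉ (CohB1.ProjSpace n k).basicOpen (r₀ j) := fun j h => by
    have h6 : V₀.2.primeIdealOf ⟨p, hi⟩ ∈ PrimeSpectrum.basicOpen (r₀ j) := by
      rw [← V₀.2.fromSpec_preimage_basicOpen]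
      show V₀.2.fromSpec (V₀.2.primeIdealOf ⟨p, hi⟩) ∈ (CohB1.ProjSpace n k).basicOpen (r₀ j)
      rwa [V₀.2.fromSpec_primeIdealOf]
    exact h6 (ha j)
  by_cases hxi : x ∈ V₀.1
  · -- one of the coefficients is invertible at the point
    obtain ⟨l, hl⟩ : ∃ l, x ∈ (CohB1.ProjSpace n k).basicOpen (r₀ l) := by
      by_contra h
      push Not at h
      refine hxp ?_
      have hle : P₀ ≤ (V₀.2.primeIdealOf ⟨x, hxi⟩).asIdeal := fun m hm => by
        rw [← hJ, ← hspan] at hm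
        refine Ideal.span_le.2 ?_ hm
        rintro _ ⟨l, rfl⟩
        by_contra hl
        refine h l ?_
        refine (congrArg (fun y => y ∈ (CohB1.ProjSpace n k).basicOpen (r₀ l))
          (V₀.2.fromSpec_primeIdealOf ⟨x, hxi⟩)).mp ?_
        show _ ∈ V₀.2.fromSpec ⁻¹ᵁ ((CohB1.ProjSpace n k).basicOpen (r₀ l))
        rw [V₀.2.fromSpec_preimage_basicOpen]
        exact hl
      have heq : V₀.2.primeIdealOf ⟨p, hi⟩ = V₀.2.primeIdealOf ⟨x, hxi⟩ :=
        PrimeSpectrum.ext ((inferInstance : P₀.IsMaximal).eq_of_le (V₀.2.primeIdealOf ⟨x, hxi⟩).2.ne_top hle)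
      calc x = V₀.2.fromSpec (V₀.2.primeIdealOf ⟨x, hxi⟩) := (V₀.2.fromSpec_primeIdealOf ⟨x, hxi⟩).symm
        _ = V₀.2.fromSpec (V₀.2.primeIdealOf ⟨p, hi⟩) := by rw [heq]
        _ = p := V₀.2.fromSpec_primeIdealOf ⟨p, hi⟩
    have hle : (CohB1.ProjSpace n k).basicOpen (r₀ l) ≤ V₀.1 := Scheme.basicOpen_le _ _
    refine ⟨⟨_, V₀.2.basicOpen (r₀ l)⟩, hl, AModX.res _ hle e₀, fun j => AModX.resR hle (r₀ j), he₀.res hle,
      fun j => ?_, ?_⟩
    · rw [← AModX.res_smul, ← hres j, AModX.res_res]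
    · rw [htop _ (hpr l)]
      exact Ideal.eq_top_of_isUnit_mem _ (Ideal.subset_span ⟨l, rfl⟩)
        (AModX.isUnit_resR hle (r₀ l) le_rfl)
  -- away from the chart one of the forms is invertible
  obtain ⟨l, hl⟩ := Opens.mem_iSup.1 ((AmpleEmbed.iSup_basicOpen_X n k).ge (trivial : x ∈ (⊤ : Opens _)))
  have hj : x ∈ Proj.basicOpen 𝒜 (T l - MvPolynomial.C (a l) * T i) := by
    rw [Proj.mem_basicOpen] at hl ⊢
    intro h
    refine hl ?_
    have hi0 : T i ∈ x.asHomogeneousIdeal.toIdeal := by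
      by_contra h'; exact hxi h'
    have := Ideal.add_mem _ h (Ideal.mul_mem_left _ (MvPolynomial.C (a l)) hi0)
    rwa [sub_add_cancel] at this
  let V : (CohB1.ProjSpace n k).affineOpens :=
    ⟨Proj.basicOpen 𝒜 (T l - MvPolynomial.C (a l) * T i), Proj.isAffineOpen_basicOpen 𝒜 _ (hu l) Nat.one_pos⟩
  let e : Γ(Twist.twistProjSpace n k ((1 : ℕ) : ℤ), V.1) :=
    AModX.res (Twist.twist 𝒜 ((1 : ℕ) : ℤ)) le_top (Twist.globalOf 𝒜 ⟨_, hu l⟩)
  have he : InvX.IsFrame e := TwistX.isFrame_res_globalOf (hu l) (fun y => y.2)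
  have hr := fun j => he.exists_coord le_rfl (AModX.res _ (le_top : V.1 ≤ ⊤) (u j))
  choose r hr using hr
  simp only [AModX.res_self] at hr
  have hpV : p ∉ V.1 := by
    intro hpV
    have h1 : InvX.IsFrame (AModX.res _ (inf_le_left : V.1 ⊓ V₀.1 ≤ V.1) e) := he.res _
    have h2 : AModX.res _ (inf_le_left : V.1 ⊓ V₀.1 ≤ V.1) e =
        AModX.resR (inf_le_right : V.1 ⊓ V₀.1 ≤ V₀.1) (r₀ l) •
          AModX.res _ (inf_le_right : V.1 ⊓ V₀.1 ≤ V₀.1) e₀ := by
      rw [← AModX.res_smul, ← hres l, AModX.res_res]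
      exact AModX.res_res _ _ _
    have h3 : IsUnit (AModX.resR (inf_le_right : V.1 ⊓ V₀.1 ≤ V₀.1) (r₀ l)) := by
      obtain ⟨w, hw⟩ := h1.exists_coord le_rfl (AModX.res _ (inf_le_right : V.1 ⊓ V₀.1 ≤ V₀.1) e₀)
      rw [AModX.res_self, h2, ← mul_smul] at hw
      have := (he₀.res (inf_le_right : V.1 ⊓ V₀.1 ≤ V₀.1)).coord_unique le_rfl (r := 1) (r' := w * _)
        (by rw [one_smul, AModX.res_self]; exact hw)
      exact IsUnit.of_mul_eq_one_right _ this.symm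
    refine hpr l (((CohB1.ProjSpace n k).mem_basicOpen (r₀ l) p hi).2 ?_)
    have h5 := h3.map ((CohB1.ProjSpace n k).presheaf.germ (V.1 ⊓ V₀.1) p ⟨hpV, hi⟩).hom
    rwa [InvX.germ_resR' (inf_le_right : V.1 ⊓ V₀.1 ≤ V₀.1) (⟨hpV, hi⟩ : p ∈ V.1 ⊓ V₀.1)] at h5
  refine ⟨V, hj, e, r, he, hr, ?_⟩
  have hrl : r l = 1 := he.coord_unique le_rfl (by rw [AModX.res_self, one_smul, ← hr l]; rfl)
  rw [htop V hpV]
  exact Ideal.eq_top_of_isUnit_mem _ (Ideal.subset_span ⟨l, hrl⟩) isUnit_one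

end Groth.Agent.H28.Blow1

end
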