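import Groth.Agent.Lib.KoszulChop
import Groth.Agent.Lib.ProjShift
import Groth.Agent.Lib.AmpleEmbed
import Groth.Agent.Lib.LerayCorner
import Groth.Agent.KFlatLib.Scheme.Pullback
import Groth.Agent.ZClosLib.Basic
import Groth.Agent.ZetaLib.ProjPoints

/-!
# Descending along the Koszul complex of a map to projective space
-/

set_option autoImplicit false
set_option linter.style.haveILetI false
set_option linter.unusedSectionVars false
set_option backward.isDefEq.respectTransparency false
set_option backward.isDefEq.respectTransparency.types false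

universe w u

open CategoryTheory CategoryTheory.Limits AlgebraicGeometry TopologicalSpace Opposite MonoidalCategory
open Groth.Agent.KFlatLib

namespace Groth.Agent.H28.Blow1

open Groth.Agent Groth.Agent.KoszulChop

variable {X : Scheme.{u}}

/-- Global sections of a submodule. -/
theorem subsingleton_zero_of_mono {A B : X.Modules} (f : A ⟶ B) [Mono f] (h : Subsingleton (Coh.HH X B 0)) :
    Subsingleton (Coh.HH X A 0) := by
  haveI : Subsingleton Γ(B, ⊤) :=
    (Sheaf.H.equiv₀ (Coh.toAb B) isTerminalTop).symm.injective.subsingleton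
  haveI : Subsingleton Γ(A, ⊤) := (ZClosLib.app_injective_of_mono f ⊤).subsingleton
  haveI : Subsingleton ((Coh.toAb A).obj.obj (op ⊤)) := (inferInstanceAs (Subsingleton Γ(A, ⊤)))
  exact (Sheaf.H.equiv₀ (Coh.toAb A) isTerminalTop).injective.subsingleton

section Descend

variable {J : Type w} (M : ℤ → X.Modules) (x : J → ∀ d : ℤ, M (d - 1) ⟶ M d)
  (hx : ∀ (i j : J) (d : ℤ), x i (d - 1) ≫ x j d = x j (d - 1) ≫ x i d)
  (l : List J) (hcov : ∀ y : X, ∃ j ∈ l, ∀ d, Function.Bijective ((KFlatLib.stalkAb y).map (x j d)))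

/-- The first term is the lowest twist. -/
theorem nonempty_obj_length : ∀ (l : List J) (d : ℤ), Nonempty (obj M l d l.length ≅ M (d - l.length))
  | [], d => ⟨eqToIso (by simp [obj])⟩
  | i :: l, d => by
    obtain ⟨e⟩ := nonempty_obj_length l (d - 1)
    have hz : IsZero (obj M l d (l.length + 1)) := isZero_obj M l d _ (by omega)
    let e₁ : obj M l d (l.length + 1) ⊞ obj M l (d - 1) l.length ≅ obj M l (d - 1) l.length :=
      { hom := biprod.snd
        inv := biprod.inr
        hom_inv_id := biprod.hom_ext' _ _ (hz.eq_of_src _ _) (by simp)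
        inv_hom_id := biprod.inr_snd }
    exact ⟨e₁ ≪≫ e ≪≫ eqToIso (congrArg M (by simp; omega))⟩

include hx hcov in
/-- Vanishing for the first term from the vanishing of the following ones and of the sections of the
first few. -/
theorem subsingleton_first (d : ℤ) (i : ℕ) (hi : i + 1 ≤ l.length)
    (h : ∀ q ≤ i, Subsingleton (Coh.HH X (M (d - (l.length : ℤ) + (q + 1 : ℕ))) (i - q))) :
    Subsingleton (Coh.HH X (M (d - l.length)) i) := by
  -- sequences of kernels
  have hker : ∀ (q p : ℕ), q ≤ p + 1 →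
      (∀ r ≤ q, Subsingleton (Coh.HH X (M (d - (p + 1 - r : ℕ))) (q - r))) →
        Subsingleton (Coh.HH X (kernel (dd M x l d p)) q) := by
    intro q
    induction q with
    | zero =>
      intro p _ h
      exact subsingleton_zero_of_mono (kernel.ι _) (subsingleton_HH_obj M 0 l d (p + 1) (by simpa using h 0 le_rfl))
    | succ q ih =>
      intro p hp h
      have h₂ : Subsingleton (Coh.HH X (obj M l d (p + 1)) (q + 1)) :=
        subsingleton_HH_obj M (q + 1) l d (p + 1) (by simpa using h 0 (Nat.zero_le _))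
      rcases p with _ | p
      · obtain rfl : q = 0 := by omega
        haveI := epi_dd M x hx l hcov d
        have hS : (ShortComplex.mk (kernel.ι (dd M x l d 0)) (dd M x l d 0) (kernel.condition _)).ShortExact :=
          ShortComplex.ShortExact.mk' (ShortComplex.exact_of_f_is_kernel _ (kernelIsKernel _)) inferInstance inferInstance
        have h₃ : Subsingleton (Coh.HH X (obj M l d 0) 0) :=
          subsingleton_HH_obj M 0 l d 0 (by simpa using h 1 le_rfl)
        exact LerayCorner.subsingleton_HH_X₁ hS 0 h₃ h₂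
      · have hS := shortExact_piece M x hx l d p (exact_dd M x hx l hcov d p)
        refine LerayCorner.subsingleton_HH_X₁ hS q (ih p (by omega) fun r hr => ?_) h₂
        have := h (r + 1) (by omega)
        rwa [show p + 1 + 1 - (r + 1) = p + 1 - r by omega, show q + 1 - (r + 1) = q - r by omega] at this
  obtain ⟨e⟩ := nonempty_obj_length M l d
  obtain ⟨m, hm⟩ : ∃ m, l.length = m + 1 := ⟨l.length - 1, by omega⟩
  rw [hm] at e
  rcases Nat.eq_zero_or_pos m with hm0 | hm0
  · -- one map only
    subst hm0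
    obtain rfl : i = 0 := by omega
    haveI := epi_dd M x hx l hcov d
    haveI : Mono (dd M x l d 0) := by
      have hz : IsZero (obj M l d 2) := isZero_obj M l d 2 (by omega)
      have := exact_dd M x hx l hcov d 0
      exact (this.mono_g_iff).2 (hz.eq_of_src _ _)
    rw [hm]
    refine QCoh.subsingleton_HH_of_iso e 0 (subsingleton_zero_of_mono (dd M x l d 0)
      (subsingleton_HH_obj M 0 l d 0 ?_))
    have := h 0 le_rfl
    simpa [hm] using this
  obtain ⟨m, rfl⟩ : ∃ m', m = m' + 1 := ⟨m - 1, by omega⟩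
  have hS := shortExact_piece M x hx l d m (exact_dd M x hx l hcov d m)
  have hz : IsZero (kernel (dd M x l d (m + 1))) := by
    have hz' : IsZero (obj M l d (m + 1 + 1 + 1)) := isZero_obj M l d _ (by omega)
    have := exact_dd M x hx l hcov d (m + 1)
    haveI : Mono (dd M x l d (m + 1)) := (this.mono_g_iff).2 (hz'.eq_of_src _ _)
    exact isZero_kernel_of_mono _
  haveI := hS.epi_g
  let g := kernel.lift (dd M x l d m) (dd M x l d (m + 1)) (dd_dd M x hx l d m)
  haveI : Mono g := (hS.exact.mono_g_iff).2 (hz.eq_of_src _ _)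
  haveI : Epi g := hS.epi_g
  haveI : IsIso g := isIso_of_mono_of_epi g
  rw [hm]
  refine QCoh.subsingleton_HH_of_iso ((asIso g).symm ≪≫ e) i (hker i m (by omega) fun r hr => ?_)
  have := h r hr
  rwa [hm, show d - ((m + 1 + 1 : ℕ) : ℤ) + ((r + 1 : ℕ) : ℤ) = d - ((m + 1 - r : ℕ) : ℤ) by omega] at this

end Descend

section Maps

variable {n : ℕ} {k : Type u} [Field k] (q : X ⟶ CohB1.ProjSpace n k) (F : X.Modules)

local notation "𝒜" => CohB1.polyGrading n k
local notation "T" => (MvPolynomial.X : Fin (n + 1) → MvPolynomial (Fin (n + 1)) k)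

/-- The twists of `F` along `q`. -/
noncomputable abbrev qM (d : ℤ) : X.Modules :=
  CohB1.tensorMod ((Scheme.Modules.pullback q).obj (Twist.twistProjSpace n k d)) F

/-- Multiplication by the coordinates. -/
noncomputable def qx (j : Fin (n + 1)) (d : ℤ) : qM q F (d - 1) ⟶ qM q F d :=
  (DCoh.tensorBi.map ((Scheme.Modules.pullback q).map (ProjShift.xHom (ZetaLib.X_mem_one n k j) d))).app F

theorem qx_comm (i j : Fin (n + 1)) (d : ℤ) :
    qx q F i (d - 1) ≫ qx q F j d = qx q F j (d - 1) ≫ qx q F i d := by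
  simp only [qx, ← NatTrans.comp_app, ← Functor.map_comp,
    ProjShift.xHom_comm (ZetaLib.X_mem_one n k i) (ZetaLib.X_mem_one n k j) d]

theorem bijective_qx {y : X} {j : Fin (n + 1)} (hy : q y ∈ PnCoh.Finite.D 𝒜 (T j)) (d : ℤ) :
    Function.Bijective ((stalkAb y).map (qx q F j d)) := by
  let P := CohB1.ProjSpace n k
  let hj := ZetaLib.X_mem_one n k j
  haveI : IsIso ((stalkP (X := P) (q y)).map (DCoh.toP.map (ProjShift.xHom hj d))) :=
    (ConcreteCategory.isIso_iff_bijective _).2 (ProjShift.bijective_stalk hj hy d)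
  haveI : IsIso ((DerSch.stalkFunctor P (q y)).map (ProjShift.xHom hj d)) :=
    (NatIso.isIso_map_iff (stalkToPIso (X := P) (q y)) (ProjShift.xHom hj d)).2 this
  haveI : IsIso ((DerSch.stalkFunctor X y).map ((Scheme.Modules.pullback q).map (ProjShift.xHom hj d))) :=
    (NatIso.isIso_map_iff (stalkPullbackIso q y) (ProjShift.xHom hj d)).2
      (Functor.map_isIso (ModuleCat.extendScalars (q.stalkMap y).hom)
        ((DerSch.stalkFunctor P (q y)).map (ProjShift.xHom hj d)))
  haveI : IsIso ((DCoh.tensorBi.flip.obj F ⋙ DerSch.stalkFunctor X y).map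
      ((Scheme.Modules.pullback q).map (ProjShift.xHom hj d))) :=
    (NatIso.isIso_map_iff (stalkTensorRightIso F y) _).2
      (Functor.map_isIso (tensorRight _)
        ((DerSch.stalkFunctor X y).map ((Scheme.Modules.pullback q).map (ProjShift.xHom hj d))))
  exact (ConcreteCategory.isIso_iff_bijective _).1
    (Functor.map_isIso (forget₂ (ModuleCat (X.presheaf.stalk y)) AddCommGrpCat)
      ((DCoh.tensorBi.flip.obj F ⋙ DerSch.stalkFunctor X y).map
        ((Scheme.Modules.pullback q).map (ProjShift.xHom hj d))))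

theorem qx_covered (y : X) :
    ∃ j ∈ (Finset.univ : Finset (Fin (n + 1))).toList, ∀ d, Function.Bijective ((stalkAb y).map (qx q F j d)) := by
  obtain ⟨j, hj⟩ := Opens.mem_iSup.1 ((AmpleEmbed.iSup_basicOpen_X n k).ge (trivial : q y ∈ (⊤ : Opens _)))
  exact ⟨j, Finset.mem_toList.2 (Finset.mem_univ j), fun d => bijective_qx q F hj d⟩

/-- Descending along the Koszul complex of `q`. -/
theorem subsingleton_pull_descend (d : ℤ) (i : ℕ) (hi : i ≤ n)
    (h : ∀ r ≤ i, Subsingleton (Coh.HH X (qM q F (d + (r + 1 : ℕ))) (i - r))) :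
    Subsingleton (Coh.HH X (qM q F d) i) := by
  have hl : (Finset.univ : Finset (Fin (n + 1))).toList.length = n + 1 := by simp
  have := subsingleton_first (qM q F) (qx q F) (qx_comm q F) _ (qx_covered q F) (d + ((n + 1 : ℕ) : ℤ)) i
    (by omega) (fun r hr => by
      have := h r hr
      rw [hl]
      rwa [show d + ((n + 1 : ℕ) : ℤ) - ((n + 1 : ℕ) : ℤ) + ((r + 1 : ℕ) : ℤ) = d + ((r + 1 : ℕ) : ℤ) by omega])
  rwa [hl, show d + ((n + 1 : ℕ) : ℤ) - ((n + 1 : ℕ) : ℤ) = d by omega] at this

end Maps

end Groth.Agent.H28.Blow1
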