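import Groth.Agent.H28.Blow1.Vanish
import Groth.Agent.Synt29.BlowPtACM

/-!
# Anticanonical twists on the blowing up in at most one point
-/

set_option autoImplicit false
set_option linter.style.haveILetI false
set_option linter.unusedSectionVars false
set_option backward.isDefEq.respectTransparency false
set_option backward.isDefEq.respectTransparency.types false
set_option maxHeartbeats 1000000

universe u

open CategoryTheory CategoryTheory.Limits AlgebraicGeometry TopologicalSpace Opposite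

noncomputable section

namespace Groth.Agent.H28.Blow1

open Groth.Agent Groth.Agent.H23.PicMul Groth.Agent.Synt29.BlowPts

variable {k : Type u} [Field k] {n s : ℕ} (P : Fin s → ↥(CohB1.ProjSpace n k))
  (hPc : ∀ i, IsClosed ({P i} : Set ↥(CohB1.ProjSpace n k))) (hZ : IsClosed (Set.range P))
  {X : Scheme.{u}} {π : X ⟶ CohB1.ProjSpace n k}
  (hP : Function.Injective P) (hπ : BlowUp.IsBlowUp π (J (Set.range P) hZ))

include hPc hπ in
/-- With at most one point: twists by positive multiples of the exceptional divisor. -/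
theorem hh_neg_le_one [IsAlgClosed k] (hn : 2 ≤ n) (hs : s ≤ 1) {T : X.Modules}
    (hT : PicF.cl (ClSub.idealMod (BlowUp.exceptional π (J (Set.range P) hZ))) * PicF.cl T = 1)
    (c : ℤ) (m q : ℕ) (hc : c < 0) (hq : q + 1 < n ∨ (q + 1 = n ∧ c + m < 0)) :
    Subsingleton (Coh.HH X (MT π T c m) q) := by
  have hv : Subsingleton (Coh.HH X (pO π c) q) :=
    hh_vanish _ (Set.finite_range P) (hpt_range P hPc) hZ (by omega) hπ c q (fun h => by omega) (fun h => by omega)
  rcases Nat.eq_zero_or_pos s with rfl | hs'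
  · have h : BlowUp.exceptional π (J (Set.range P) hZ) = ⊤ := by
      refine le_antisymm le_top ?_
      have h1 : (⟨Set.range P, hZ⟩ : Closeds ↥(CohB1.ProjSpace n k)) = ⊥ := Closeds.ext (by simp)
      show ⊤ ≤ (Scheme.IdealSheafData.vanishingIdeal _).comap π
      rw [h1, Scheme.IdealSheafData.vanishingIdeal_bot, Scheme.IdealSheafData.comap_top]
    rw [h, (cl_eq_iff.2 (DefCore.idealMod_top X)).trans H23.PicMul.one_def.symm, one_mul] at hT
    obtain ⟨e⟩ : Nonempty (pO π c ≅ MT π T c m) := cl_eq_iff.1 (by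
      rw [cl_tensor, cl_tensorPow, hT, one_pow, mul_one])
    exact QCoh.subsingleton_HH_of_iso e q hv
  obtain rfl : s = 1 := by omega
  have hJ : J ({P 0} : Set _) (hPc 0) = J (Set.range P) hZ := Jt_eq P hPc hZ le_rfl 0
  rcases hq with hq | ⟨hq, hcm⟩
  · exact hh_easy (hPc 0) (hJ ▸ hπ) hn (hJ ▸ hT) c m q (Or.inl hq) hv
  · exact hh_neg (hPc 0) (hJ ▸ hπ) hn (hJ ▸ hT) m c q (by omega) hcm

/-- Global sections. -/
def gsec (X : Scheme.{u}) : X.Modules ⥤ AddCommGrpCat.{u} where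
  obj M := Γ(M, ⊤)
  map φ := φ.app ⊤
  map_id _ := rfl
  map_comp _ _ := rfl

instance (X : Scheme.{u}) : (gsec X).Additive where
  map_add := rfl

open KoszulChop in
/-- An element of the last term lies in a subgroup when the images of the maps do. -/
theorem mem_of_dd {C : Type*} [Category C] [Preadditive C] [HasBinaryBiproducts C] [HasZeroObject C] {J : Type*}
    (M : ℤ → C) (x : J → ∀ d : ℤ, M (d - 1) ⟶ M d) (G : C ⥤ AddCommGrpCat.{u}) [G.Additive] (l : List J) (d : ℤ)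
    (hsurj : Function.Surjective (G.map (dd M x l d 0))) (S : AddSubgroup (G.obj (M d)))
    (hS : ∀ j w, G.map (x j d) w ∈ S) (z : G.obj (M d)) : z ∈ S := by
  haveI := isIso_e0 M l d
  obtain ⟨y, hy⟩ := hsurj (G.map (inv (e0 M l d)) z)
  have h := dd_zero_mem M x G l d S (fun j _ w => hS j w) y
  rwa [map_comp_apply, hy, ← map_comp_apply, IsIso.inv_hom_id, map_id_apply] at h

open KoszulChop in
/-- One step along the Koszul complex of a transported system. -/
theorem mem_step {C D : Type*} [Category C] [Preadditive C] [HasBinaryBiproducts C] [HasZeroObject C] [Category D]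
    {J : Type*} (F : D ⥤ C) (G : C ⥤ AddCommGrpCat.{u}) [G.Additive] (N : ℤ → D)
    (y : J → ∀ d : ℤ, N (d - 1) ⟶ N d) (l : List J) (d : ℤ)
    (hsurj : Function.Surjective (G.map (dd (fun e => F.obj (N e)) (fun j e => F.map (y j e)) l d 0)))
    {P : D} (φ : N d ⟶ P) (S : AddSubgroup (G.obj (F.obj P)))
    (h : ∀ j w, G.map (F.map (y j d ≫ φ)) w ∈ S) (z : G.obj (F.obj (N d))) : G.map (F.map φ) z ∈ S :=
  mem_of_dd (fun e => F.obj (N e)) (fun j e => F.map (y j e)) G l d hsurj (S.comap (G.map (F.map φ)).hom)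
    (fun j w => by
      show G.map (F.map φ) (G.map (F.map (y j d)) w) ∈ S
      rw [← map_comp_apply, ← F.map_comp]
      exact h j w) z

/-- An additive functor to groups: a subgroup contains everything as soon as it contains the images of the summands. -/
theorem mem_of_summands {C : Type*} [Category C] [Preadditive C] [HasBinaryBiproducts C] [HasZeroObject C] {a : ℕ} {A B : C}
    (pr : Fin a → (A ⟶ B)) (inj : Fin a → (B ⟶ A)) (hid : ∑ j, pr j ≫ inj j = 𝟙 A)
    (G : C ⥤ AddCommGrpCat.{u}) [G.Additive] (S : AddSubgroup (G.obj A))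
    (h : ∀ j (w : G.obj B), G.map (inj j) w ∈ S) (z : G.obj A) : z ∈ S := by
  have hz : ∀ (F : Finset (Fin a)), G.map (∑ j ∈ F, pr j ≫ inj j) z ∈ S := by
    classical
    intro F
    induction F using Finset.induction_on with
    | empty => rw [Finset.sum_empty, KoszulChop.map_zero_apply]; exact S.zero_mem
    | insert j F hj ih =>
      rw [Finset.sum_insert hj, KoszulChop.map_add_apply, KoszulChop.map_comp_apply]
      exact add_mem (h j _) ih
  have := hz Finset.univ
  rwa [hid, KoszulChop.map_id_apply] at this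

variable {Hm : X.Modules}
  (eH : Hm ≅ CohB1.tensorMod (pO π ((n : ℤ) + 1))
    (CohB1.tensorPow (ClSub.idealMod (BlowUp.exceptional π (J (Set.range P) hZ))) (n - 1)))

include eH hPc in
/-- The twists of the powers of the anticanonical module. -/
theorem cl_pow_tensor (hs : s ≤ 1) (e : ℤ) (t : ℕ) :
    PicF.cl (pO π e) * PicF.cl (CohB1.tensorPow Hm t) =
      PicF.cl (Md P hPc π (((n : ℤ) + 1) * t + e) fun _ => (n - 1) * t) := by
  obtain ⟨eL⟩ := nonempty_pow_iso P hPc hZ (π := π) hs ((n - 1) * t)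
  rw [cl_tensor, ← cl_eq_iff.2 ⟨eL⟩, cl_tensorPow, cl_tensorPow, cl_eq_iff.2 ⟨eH⟩, cl_tensor,
    cl_tensorPow, mul_pow, ← pow_mul]
  have hp : ∀ x : ℤ, PicF.cl (pO π x) = ((pullHom π).comp (SeesawX.PnFibre.twistHom n k)) (Multiplicative.ofAdd x) :=
    fun x => rfl
  rw [hp, hp, hp, ← map_pow, ← mul_assoc, ← map_mul]
  congr 2
  rw [← ofAdd_nsmul, ← ofAdd_add]
  congr 1
  simp [mul_comm, add_comm]

include eH in
/-- The twists of the powers of its inverse. -/
theorem cl_inv_pow_tensor {Hi T : X.Modules} (hHi : ClSub.IsInverseOf Hi Hm)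
    (hT : PicF.cl (ClSub.idealMod (BlowUp.exceptional π (J (Set.range P) hZ))) * PicF.cl T = 1) (e : ℤ) (t : ℕ) :
    PicF.cl (pO π e) * PicF.cl (CohB1.tensorPow Hi t) =
      PicF.cl (MT π T (e - ((n : ℤ) + 1) * t) ((n - 1) * t)) := by
  obtain ⟨ei⟩ := hHi
  have h1 : PicF.cl Hi * PicF.cl Hm = 1 := by
    rw [← cl_tensor, H23.PicMul.one_def]
    exact cl_eq_iff.2 ⟨ei⟩
  have hp : ∀ x : ℤ, PicF.cl (pO π x) = ((pullHom π).comp (SeesawX.PnFibre.twistHom n k)) (Multiplicative.ofAdd x) :=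
    fun x => rfl
  have h2 : PicF.cl Hi = PicF.cl (pO π (-((n : ℤ) + 1))) * PicF.cl T ^ (n - 1) := by
    refine (IsUnit.of_mul_eq_one_right _ h1).mul_right_cancel ?_
    rw [h1, cl_eq_iff.2 ⟨eH⟩, cl_tensor, cl_tensorPow, mul_mul_mul_comm, ← mul_pow, mul_comm (PicF.cl T), hT,
      one_pow, mul_one, hp, hp, ← map_mul, ← ofAdd_add, neg_add_cancel, ofAdd_zero, map_one]
  rw [cl_tensor, cl_tensorPow, cl_tensorPow, h2, mul_pow, ← pow_mul, hp, hp, hp, ← map_pow, ← mul_assoc, ← map_mul,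
    ← ofAdd_nsmul, ← ofAdd_add,
    show e + t • (-((n : ℤ) + 1)) = e - ((n : ℤ) + 1) * t by rw [nsmul_eq_mul]; ring]

include hPc hP hπ eH in
/-- Sections of twists of the anticanonical powers by quadrics come from products. -/
theorem hh_koszul [IsAlgClosed k] (hn : 3 ≤ n) (hs : s ≤ 1) (t : ℕ) (e : ℕ) (he : 1 ≤ e) :
    Function.Surjective ((KoszulChop.dd (qM π (CohB1.tensorPow Hm t)) (qx π (CohB1.tensorPow Hm t))
      (Finset.univ : Finset (Fin (n + 1))).toList (e : ℤ) 0).app ⊤) := by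
  refine KoszulChop.surjective_dd_zero _ _ (qx_comm _ _) _ (qx_covered _ _) (e : ℤ) fun q => ?_
  by_cases hq : q + 2 ≤ n + 1
  swap
  · exact Euler.subsingleton_HH_of_isZero (KoszulChop.isZero_obj _ _ _ _ (by simp; omega)) _
  refine KoszulChop.subsingleton_HH_obj _ _ _ _ _ ?_
  obtain ⟨iso⟩ := cl_eq_iff.1 ((cl_tensor (pO π ((e : ℤ) - ((q + 2 : ℕ) : ℤ))) (CohB1.tensorPow Hm t)).trans
    (cl_pow_tensor P hPc hZ eH hs ((e : ℤ) - ((q + 2 : ℕ) : ℤ)) t))
  refine QCoh.subsingleton_HH_of_iso iso.symm (q + 1) ?_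
  have hcast : (((n - 1) * t : ℕ) : ℤ) = ((n : ℤ) - 1) * t := by
    rw [Nat.cast_mul, Nat.cast_sub (by omega)]
    simp
  have h0 : (0 : ℤ) ≤ ((n : ℤ) + 1) * t := by positivity
  refine hh_Md_le_one P hPc hZ hP hπ (by omega) hs _ _ (q + 1) (by omega) ?_ fun h => ?_
  · rcases lt_or_eq_of_le (show q + 1 ≤ n by omega) with h | h
    · exact Or.inl h
    · exact Or.inr ⟨h, by omega⟩
  · rcases Nat.eq_zero_or_pos t with rfl | ht
    · exact Or.inl (mul_zero _)
    · right
      rw [hcast]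
      have : (1 : ℤ) ≤ t := by exact_mod_cast ht
      push_cast
      nlinarith

/-- A map onto on sections stays onto after twisting, given surjectivity along the Koszul complexes. -/
theorem surjective_twisted {L : X.Modules}
    (hK : ∀ e : ℕ, 1 ≤ e → Function.Surjective ((KoszulChop.dd (qM π L) (qx π L)
      (Finset.univ : Finset (Fin (n + 1))).toList (e : ℤ) 0).app ⊤))
    {a : ℕ} {Q₂ P₂ : X.Modules}
    (eP : P₂ ≅ ∐ fun _ : Fin a => pO π ((2 : ℕ) : ℤ)) (g : Q₂ ⟶ P₂) (hg : Function.Surjective (g.app ⊤)) :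
    Function.Surjective (((DCoh.tensorBi.flip.obj L).map g).app ⊤) := by
  classical
  let R := DCoh.tensorBi.flip.obj L
  haveI : R.Additive := Functor.additive_of_preserves_binary_products _
  let G := R ⋙ gsec X
  haveI : G.Additive := inferInstanceAs (R ⋙ gsec X).Additive
  let Im : AddSubgroup (G.obj P₂) := (G.map g).hom.range
  -- constant products land in the image
  have hbase : ∀ (ψ : Coh.structureModule X ⟶ P₂) (w : G.obj (Coh.structureModule X)), G.map ψ w ∈ Im := by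
    intro ψ w
    obtain ⟨q, hq⟩ := hg (InvX.one ψ)
    have hψ : InvX.ofSect q ≫ g = ψ := by
      refine Scheme.Modules.hom_ext _ _ fun U => AddCommGrpCat.hom_ext (AddMonoidHom.ext fun r => ?_)
      refine ((InvX.app_eq_smul (InvX.ofSect q ≫ g) r).trans ?_).trans (InvX.app_eq_smul ψ r).symm
      congr 2
      show g.app ⊤ (InvX.one (InvX.ofSect q)) = InvX.one ψ
      rw [InvX.one_ofSect, hq]
    exact ⟨G.map (InvX.ofSect q) w, (KoszulChop.map_comp_apply G _ _ w).symm.trans (by rw [hψ])⟩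
  -- two steps of the Koszul complex
  obtain ⟨η⟩ : Nonempty (pO π (((2 : ℕ) : ℤ) - 1 - 1) ≅ Coh.structureModule X) := by
    rw [show (((2 : ℕ) : ℤ) - 1 - 1) = 0 by norm_num]
    exact pO_zero π
  have hK₂ := hK 2 (by norm_num)
  have hK₁ := hK 1 le_rfl
  rw [show ((1 : ℕ) : ℤ) = ((2 : ℕ) : ℤ) - 1 by norm_num] at hK₁
  have hsum : ∀ (φ : pO π ((2 : ℕ) : ℤ) ⟶ P₂) (z : G.obj (pO π ((2 : ℕ) : ℤ))), G.map φ z ∈ Im :=
    fun φ z => mem_step R (gsec X) (fun e => pO π e)
      (fun j e => (Scheme.Modules.pullback π).map (ProjShift.xHom (ZetaLib.X_mem_one n k j) e)) _ _ hK₂ φ Im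
      (fun j w => mem_step R (gsec X) (fun e => pO π e)
        (fun j e => (Scheme.Modules.pullback π).map (ProjShift.xHom (ZetaLib.X_mem_one n k j) e)) _ _ hK₁ _ Im
        (fun i v => by
          have h2 := hbase (η.inv ≫ ((Scheme.Modules.pullback π).map
            (ProjShift.xHom (ZetaLib.X_mem_one n k i) (((2 : ℕ) : ℤ) - 1)) ≫ ((Scheme.Modules.pullback π).map
            (ProjShift.xHom (ZetaLib.X_mem_one n k j) ((2 : ℕ) : ℤ)) ≫ φ))) (G.map η.hom v)
          rw [← KoszulChop.map_comp_apply G, Iso.hom_inv_id_assoc] at h2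
          exact h2) w) z
  -- the summands
  intro z
  let T := fun _ : Fin a => pO π ((2 : ℕ) : ℤ)
  let pr : ∀ j, P₂ ⟶ T j := fun j => eP.hom ≫ Sigma.desc fun i => if i = j then 𝟙 _ else 0
  let inj : ∀ j, T j ⟶ P₂ := fun j => Sigma.ι T j ≫ eP.inv
  have hid : ∑ j, pr j ≫ inj j = 𝟙 P₂ := by
    have h1 : ∑ j, (Sigma.desc fun i => if i = j then 𝟙 _ else 0 : ∐ T ⟶ T j) ≫ Sigma.ι T j = 𝟙 (∐ T) := by
      refine Sigma.hom_ext _ _ fun i => ?_
      rw [Preadditive.comp_sum, Category.comp_id, Finset.sum_eq_single i]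
      · simp
      · intro j _ hj
        simp [Ne.symm hj]
      · simp
    calc ∑ j, pr j ≫ inj j = eP.hom ≫ (∑ j, (Sigma.desc fun i => if i = j then 𝟙 _ else 0 :
          ∐ T ⟶ T j) ≫ Sigma.ι T j) ≫ eP.inv := by
            simp only [pr, inj, T, Preadditive.comp_sum, Preadditive.sum_comp, Category.assoc]
      _ = 𝟙 P₂ := by rw [h1, Category.id_comp, Iso.hom_inv_id]
  exact mem_of_summands pr inj hid G Im (fun j w => hsum (inj j) w) z

include hPc hP hπ eH in
/-- The structure sheaf has no middle cohomology in the anticanonical twists. -/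
theorem hh_twists [IsAlgClosed k] (hn : 3 ≤ n) (hs : s ≤ 1) {Hi : X.Modules} (hHi : ClSub.IsInverseOf Hi Hm)
    (e : ℤ) (t : ℕ) (q : ℕ) (hq : 1 ≤ q) (hqn : q + 1 ≤ n) :
    ((0 ≤ e ∧ e ≤ 2) → Subsingleton (Coh.HH X (CohB1.tensorMod (pO π e) (CohB1.tensorPow Hm t)) q)) ∧
    ((0 ≤ e ∧ e ≤ 2 ∧ (t = 0 ∨ e ≤ 1 ∨ q + 1 < n)) →
      Subsingleton (Coh.HH X (CohB1.tensorMod (pO π e) (CohB1.tensorPow Hi t)) q)) := by
  constructor
  · rintro ⟨he0, he2⟩
    obtain ⟨iso⟩ := cl_eq_iff.1 ((cl_tensor (pO π e) (CohB1.tensorPow Hm t)).trans (cl_pow_tensor P hPc hZ eH hs e t))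
    refine QCoh.subsingleton_HH_of_iso iso.symm q (hh_Md_le_one P hPc hZ hP hπ (by omega) hs _ _ q hq
      (Or.inl (by omega)) fun _ => ?_)
    rcases Nat.eq_zero_or_pos t with rfl | ht
    · exact Or.inl (mul_zero _)
    · right
      rw [Nat.cast_mul, Nat.cast_sub (by omega : 1 ≤ n)]
      have : (1 : ℤ) ≤ t := by exact_mod_cast ht
      push_cast
      nlinarith
  · rintro ⟨he0, he2, hcase⟩
    obtain ⟨T, -, ⟨eT⟩⟩ := H23.PicInv.exists_inverse (H26.IdealCl.isInvertible_idealMod hπ.1)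
    have hT : PicF.cl (ClSub.idealMod (BlowUp.exceptional π (J (Set.range P) hZ))) * PicF.cl T = 1 := by
      rw [← cl_tensor, H23.PicMul.one_def]
      exact cl_eq_iff.2 ⟨eT⟩
    obtain ⟨iso⟩ := cl_eq_iff.1 ((cl_tensor (pO π e) (CohB1.tensorPow Hi t)).trans (cl_inv_pow_tensor P hZ eH hHi hT e t))
    refine QCoh.subsingleton_HH_of_iso iso.symm q ?_
    rcases Nat.eq_zero_or_pos t with rfl | ht
    · obtain ⟨iso0⟩ : Nonempty (pO π (e - ((n : ℤ) + 1) * ((0 : ℕ) : ℤ)) ≅
          MT π T (e - ((n : ℤ) + 1) * ((0 : ℕ) : ℤ)) ((n - 1) * 0)) :=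
        ⟨(H23.PicMul.unit _).some.symm⟩
      exact QCoh.subsingleton_HH_of_iso iso0 q (hh_vanish _ (Set.finite_range P) (hpt_range P hPc) hZ (by omega) hπ
        _ q (fun h => by omega) (fun h => by omega))
    have ht' : (1 : ℤ) ≤ t := by exact_mod_cast ht
    refine hh_neg_le_one P hPc hZ hπ (by omega) hs hT _ _ q (by nlinarith) ?_
    rcases lt_or_eq_of_le hqn with h | h
    · exact Or.inl h
    · refine Or.inr ⟨h, ?_⟩
      have he1 : e ≤ 1 := by rcases hcase with h' | h' | h' <;> omega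
      rw [Nat.cast_mul, Nat.cast_sub (by omega : 1 ≤ n)]
      push_cast
      nlinarith

include hPc hπ eH in
/-- The negative twists have no sections. -/
theorem hh_inv_zero [IsAlgClosed k] (hn : 3 ≤ n) (hs : s ≤ 1) {Hi : X.Modules} (hHi : ClSub.IsInverseOf Hi Hm)
    (t : ℕ) (ht : 1 ≤ t) : Subsingleton (Coh.HH X (CohB1.tensorMod (pO π 2) (CohB1.tensorPow Hi t)) 0) := by
  obtain ⟨T, -, ⟨eT⟩⟩ := H23.PicInv.exists_inverse (H26.IdealCl.isInvertible_idealMod hπ.1)
  have hT : PicF.cl (ClSub.idealMod (BlowUp.exceptional π (J (Set.range P) hZ))) * PicF.cl T = 1 := by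
    rw [← cl_tensor, H23.PicMul.one_def]
    exact cl_eq_iff.2 ⟨eT⟩
  obtain ⟨iso⟩ := cl_eq_iff.1 ((cl_tensor (pO π 2) (CohB1.tensorPow Hi t)).trans (cl_inv_pow_tensor P hZ eH hHi hT 2 t))
  refine QCoh.subsingleton_HH_of_iso iso.symm 0 ?_
  have ht' : (1 : ℤ) ≤ t := by exact_mod_cast ht
  exact hh_neg_le_one P hPc hZ hπ (by omega) hs hT _ _ 0 (by nlinarith) (Or.inl (by omega))

end Groth.Agent.H28.Blow1

end
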