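import Groth.Agent.H28.Blow1.Sect
import Groth.Agent.H28.Blow1.Koszul
import Groth.Agent.Synt29.BlowPtsMulti
import Groth.Agent.H28.ExcBundle
import Groth.Agent.H9Misc.PBTwistVanish
import Groth.Agent.QCoh.AffineCohom

/-!
# Cohomology of the twists by positive multiples of the exceptional divisor
-/

set_option autoImplicit false
set_option linter.style.haveILetI false
set_option linter.unusedSectionVars false
set_option backward.isDefEq.respectTransparency false
set_option backward.isDefEq.respectTransparency.types false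
set_option maxHeartbeats 1000000

universe u

open CategoryTheory CategoryTheory.Limits AlgebraicGeometry TopologicalSpace Opposite

noncomputable section

namespace Groth.Agent.H28.Blow1

open Groth.Agent Groth.Agent.H23.PicMul

/-- Invertible modules on a one-point scheme are trivial. -/
theorem trivial_of_subsingleton {Z : Scheme.{u}} [Nonempty Z] [Subsingleton Z] {A : Z.Modules}
    (hA : PicF.IsInvertible A) : PicF.cl A = 1 := by
  obtain ⟨z⟩ := (inferInstance : Nonempty Z)
  obtain ⟨U, hz, e, he⟩ := InvX.exists_frame hA z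
  have hU : U = ⊤ := top_le_iff.1 fun w _ => by rwa [Subsingleton.elim w z]
  subst hU
  obtain ⟨e₁⟩ := InvX.nonempty_iso_of_isFrame he
  have hs := InvX.ofSect (M := A) e
  rw [one_def, cl_eq_iff]
  haveI : IsIso ((Scheme.Modules.restrictFunctor (⊤ : Z.Opens).ι).map (InvX.ofSect (M := A) e)) := by
    rw [InvX.isIso_restrict_iff, InvX.one_ofSect, AModX.res_self]
    exact he
  haveI : IsIso (InvX.ofSect (M := A) e) := by
    refine Scheme.Modules.Hom.isIso_iff_isIso_app.2 fun V => (ConcreteCategory.isIso_iff_bijective _).2 ?_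
    have h : ((InvX.ofSect (M := A) e).app V : _ → _) =
        fun r : Γ(Z, V) => r • AModX.res A (le_top : V ≤ ⊤) e := funext fun r => by
      refine (InvX.app_eq_smul _ r).trans ?_
      rw [InvX.one_ofSect]
    rw [h]
    exact he V le_top
  exact ⟨(asIso (InvX.ofSect (M := A) e)).symm⟩

variable {k : Type u} [Field k] {n : ℕ} {X : Scheme.{u}} {π : X ⟶ CohB1.ProjSpace n k}
  {p : ↥(CohB1.ProjSpace n k)} (hp : IsClosed ({p} : Set ↥(CohB1.ProjSpace n k)))
  (hπ : BlowUp.IsBlowUp π (Synt29.BlowPts.J ({p} : Set _) hp)) (hn : 2 ≤ n)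
  {T : X.Modules}
  (hT : PicF.cl (ClSub.idealMod (BlowUp.exceptional π (Synt29.BlowPts.J ({p} : Set _) hp))) * PicF.cl T = 1)

/-- `π^*O(c) ⊗ T^m`. -/
abbrev MT (π : X ⟶ CohB1.ProjSpace n k) (T : X.Modules) (c : ℤ) (m : ℕ) : X.Modules :=
  CohB1.tensorMod (Synt29.BlowPts.pO π c) (CohB1.tensorPow T m)

include hπ hT in
theorem isInvertible_T : PicF.IsInvertible T := by
  refine (CurveOnSurf.isInvertible_of_inverse (H26.IdealCl.isInvertible_idealMod hπ.1) ?_).1
  refine cl_eq_iff.1 ?_
  rw [cl_tensor, ← one_def, mul_comm]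
  exact hT

include hπ hn hT in
/-- The restriction of `π^*O(c) ⊗ T^m` to the exceptional divisor has little cohomology. -/
theorem hh_exc (c : ℤ) (m q : ℕ) (hm : 1 ≤ m) (hq : ¬ (q = n - 1 ∧ n ≤ m)) :
    Subsingleton (Coh.HH _ ((Scheme.Modules.pullback
      (BlowUp.exceptional π (Synt29.BlowPts.J ({p} : Set _) hp)).subschemeι).obj (MT π T c m)) q) := by
  haveI := Synt29.BlowPts.isNoetherian_Pn (k := k) (n := n)
  let Jp := Synt29.BlowPts.J ({p} : Set _) hp
  let I := BlowUp.exceptional π Jp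
  let i := Jp.subschemeι
  let ι := I.subschemeι
  let ψ : I.subscheme ⟶ Jp.subscheme := (Scheme.IdealSheafData.comapIso Jp π).hom ≫ pullback.snd π i
  have hsq : IsPullback ι ψ π i := IsPullback.of_iso (IsPullback.of_hasPullback π i)
    (Scheme.IdealSheafData.comapIso Jp π).symm (Iso.refl _) (Iso.refl _) (Iso.refl _)
    (by simp [ι, I, i])
    (by simp [ψ]) (by simp) (by simp)
  have hpt : ∀ x ∈ ({p} : Set ↥(CohB1.ProjSpace n k)), IsClosed ({x} : Set ↥(CohB1.ProjSpace n k)) := fun x hx => hx ▸ hp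
  obtain ⟨hi, hC⟩ := Synt29.BlowPts.regClosed ({p} : Set _) (Set.finite_singleton p) hpt hp (show 1 ≤ n by omega)
  have hker : i.ker = Jp := Scheme.IdealSheafData.ker_subschemeι _
  obtain ⟨φ, -, hP⟩ := ExcBundle.exists_isProjBundle hi (show 1 ≤ n by omega) hC
    (show BlowUp.IsBlowUp π i.ker by rwa [hker]) hsq
  have hrange : ∀ z, i z = p := fun z => by
    have hz : i z ∈ Set.range i := ⟨z, rfl⟩
    rw [Scheme.IdealSheafData.range_subschemeι, Scheme.IdealSheafData.coe_support_vanishingIdeal] at hz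
    exact hz
  haveI : Subsingleton Jp.subscheme := ⟨fun a b => i.isClosedEmbedding.injective ((hrange a).trans (hrange b).symm)⟩
  haveI : Nonempty Jp.subscheme := by
    have : p ∈ Set.range i := by
      rw [Scheme.IdealSheafData.range_subschemeι, Scheme.IdealSheafData.coe_support_vanishingIdeal]
      exact rfl
    exact ⟨this.choose⟩
  -- the class of the restriction
  have hc : PicF.cl ((Scheme.Modules.pullback ι).obj (Synt29.BlowPts.pO π c)) = 1 := by
    show pullHom ι (pullHom π (PicF.cl (Twist.twistProjSpace n k c))) = 1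
    have hnat : ∀ A : (CohB1.ProjSpace n k).Modules, pullHom ι (pullHom π (PicF.cl A)) = pullHom ψ (pullHom i (PicF.cl A)) :=
      fun A => cl_eq_iff.2 ⟨(Scheme.Modules.pullbackComp ι π).app A ≪≫
          (Scheme.Modules.pullbackCongr hsq.w).app A ≪≫ ((Scheme.Modules.pullbackComp ψ i).app A).symm⟩
    rw [hnat, show pullHom i (PicF.cl (Twist.twistProjSpace n k c)) = 1 from
      trivial_of_subsingleton (PicClLib.isInvertible_pullback i (Synt29.BlowPts.isInvertible_twist c)), map_one]
  let L := (Scheme.Modules.pullback ι).obj T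
  have hL : ClSub.IsInverseOf L (Omega.conormal ι) := by
    refine cl_eq_iff.1 ?_
    rw [cl_tensor, ← H23.PicMul.one_def]
    show pullHom ι (PicF.cl T) * pullHom ι (PicF.cl (ClSub.idealMod ι.ker)) = 1
    rw [show ι.ker = I from Scheme.IdealSheafData.ker_subschemeι _, ← map_mul, mul_comm, hT, map_one]
  have hrest : PicF.cl ((Scheme.Modules.pullback ι).obj (MT π T c m)) = PicF.cl (CohB1.tensorPow L m) := by
    show pullHom ι (PicF.cl (MT π T c m)) = _
    rw [cl_tensor, map_mul, cl_tensorPow, cl_tensorPow, map_pow]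
    refine (congrArg (· * _) hc).trans (one_mul _)
  obtain ⟨er⟩ := cl_eq_iff.1 hrest
  refine QCoh.subsingleton_HH_of_iso er.symm q ?_
  -- on the chart of the projective bundle
  obtain ⟨r, rfl⟩ : ∃ r, n = r + 1 := ⟨n - 1, by omega⟩
  obtain ⟨z⟩ := (inferInstance : Nonempty Jp.subscheme)
  obtain ⟨U, hzU, hU⟩ := H9Misc.PBTwistVanish.exists_chart hP hC z
  obtain ⟨W, hW, hzW, hWU⟩ := exists_isAffineOpen_mem_and_subset hzU
  obtain ⟨ch, hch⟩ := hU W hW hWU
  obtain ⟨e⟩ := H9Misc.PBTwistVanish.nonempty_neg ch hL m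
  have hWtop : ψ ⁻¹ᵁ ch.U.1 = ⊤ := by
    have hWt : W = ⊤ := top_le_iff.1 (fun w _ => by rw [Subsingleton.elim w z]; exact hzW)
    rw [hch, hWt]
    rfl
  let V : I.subscheme.Opens := ψ ⁻¹ᵁ ch.U.1
  haveI : IsIso V.ι := by
    rw [show V = ⊤ from hWtop]
    exact BlowHH.isIso_ι_top _
  haveI := ch.isIso
  have hLq : Coh.IsQCoh (CohB1.tensorPow L m) :=
    ProjUPX.isQCoh_of_isInvertible (InvX.isInvertible_tensorPow (PicClLib.isInvertible_pullback ι (isInvertible_T hp hπ hT)) m)
  refine BlowHH.hh_iso V.ι hLq q (BlowHH.hh_iso ch.θ (QCoh.isQCoh_pullback _ hLq) q ?_)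
  refine QCoh.subsingleton_HH_of_iso (((Scheme.Modules.pullbackComp ch.θ V.ι).app _) ≪≫ e).symm q
    (H9Misc.PBTwistVanish.hh_twistOver ch.B _ q ?_)
  omega

include hπ hn hT in
/-- Adding one copy of the exceptional divisor. -/
theorem exists_step (c : ℤ) (m : ℕ) :
    ∃ S : ShortComplex X.Modules, S.ShortExact ∧ Nonempty (S.X₁ ≅ MT π T c m) ∧
      Nonempty (S.X₂ ≅ MT π T c (m + 1)) ∧ ∀ q, ¬ (q = n - 1 ∧ n ≤ m + 1) → Subsingleton (Coh.HH X S.X₃ q) := by
  let I := BlowUp.exceptional π (Synt29.BlowPts.J ({p} : Set _) hp)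
  obtain ⟨hX, hprop⟩ := Synt29.BlowPts.geom ({p} : Set _) hp hπ
  haveI := hX; haveI := hprop
  let A := MT π T c (m + 1)
  have hA : FlatMod.IsFinLocFree A := H23.PullPush.isFinLocFree_of_isInvertible
    (isInvertible_tensor (PicClLib.isInvertible_pullback π (Synt29.BlowPts.isInvertible_twist c))
      (H23.PicMul.isInvertible_tensorPow (isInvertible_T hp hπ hT) _))
  let F := DCoh.tensorBi.obj A
  haveI : F.Additive := Functor.additive_of_preserves_binary_products _
  let S : ShortComplex X.Modules :=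
    (ShortComplex.mk _ _ (show ClSub.idealModι I ≫ ClSub.toSubscheme I = 0 from kernel.condition _)).map F
  have hS : S.ShortExact := PBPush.shortExact_tens hA (DivisorExt.ideal_shortExact I)
  have h₁ : Nonempty (S.X₁ ≅ MT π T c m) := by
    refine cl_eq_iff.1 ?_
    show PicF.cl (CohB1.tensorMod (MT π T c (m + 1)) (ClSub.idealMod I)) = _
    simp only [cl_tensor, cl_tensorPow, pow_succ]
    rw [mul_assoc, mul_assoc, mul_comm (PicF.cl T) (PicF.cl (ClSub.idealMod I)), hT, mul_one]
  obtain ⟨N, hN, ⟨e₃⟩⟩ : ∃ N, Coh.IsQCoh N ∧ Nonempty (S.X₃ ≅ (Scheme.Modules.pushforward I.subschemeι).obj N) :=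
    Synt29.BlowPts.exists_quot_push A hA I
  refine ⟨S, hS, h₁, ⟨(H23.PicMul.unit A).some⟩, fun q hq => ?_⟩
  -- identify the quotient with the restriction
  obtain ⟨e⟩ : Nonempty (S.X₃ ≅ (Scheme.Modules.pushforward I.subschemeι).obj
      ((Scheme.Modules.pullback I.subschemeι).obj A)) := by
    haveI : HasInjectiveResolutions I.subscheme.Modules := KFlatLib.hasInjectiveResolutions_modules
    haveI := SpObjSS.enoughInjectives_of_hasInjectiveResolutions (C := I.subscheme.Modules)
    haveI := QCoh.preservesFiniteLimits_push I.subschemeι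
    obtain ⟨e₀⟩ := S0927.result I.subschemeι (Coh.structureModule I.subscheme) A hA 0
    let G := Scheme.Modules.pushforward I.subschemeι
    let z : G.rightDerived 0 ≅ G := G.rightDerivedZeroIsoSelf
    obtain ⟨eu⟩ := H23.PicMul.unit ((Scheme.Modules.pullback I.subschemeι).obj A)
    exact ⟨F.mapIso (z.symm.app (Coh.structureModule I.subscheme)) ≪≫ e₀ ≪≫ z.app _ ≪≫ G.mapIso eu⟩
  refine QCoh.subsingleton_HH_of_iso e.symm q ?_
  obtain ⟨eH⟩ := QCoh.HH_push_of_isAffineHom I.subschemeι
    (QCoh.isQCoh_pullback I.subschemeι (QCoh.isQCoh_of_isFinLocFree hA)) q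
  haveI := hh_exc hp hπ hn hT c (m + 1) q (by omega) hq
  exact eH.symm.toEquiv.subsingleton

include hπ hn hT in
/-- Twisting by few copies, or in low degree, changes nothing. -/
theorem hh_easy (c : ℤ) (m q : ℕ) (hq : q + 1 < n ∨ (q + 1 = n ∧ m < n))
    (h : Subsingleton (Coh.HH X (Synt29.BlowPts.pO π c) q)) : Subsingleton (Coh.HH X (MT π T c m) q) := by
  induction m with
  | zero => exact QCoh.subsingleton_HH_of_iso (H23.PicMul.unit (Synt29.BlowPts.pO π c)).some.symm q h
  | succ m ih =>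
    obtain ⟨S, hS, ⟨e₁⟩, ⟨e₂⟩, h₃⟩ := exists_step hp hπ hn hT c m
    exact QCoh.subsingleton_HH_of_iso e₂ q (QCoh.subsingleton_HH_X₂ hS q
      (QCoh.subsingleton_HH_of_iso e₁.symm q (ih (by omega))) (h₃ q (by omega)))

include hπ hn hT in
/-- Twists of negative degree on the lines have no cohomology below the dimension. -/
theorem hh_neg [IsAlgClosed k] (m : ℕ) : ∀ (c : ℤ) (q : ℕ), q + 1 ≤ n → c + m < 0 →
    Subsingleton (Coh.HH X (MT π T c m) q) := by
  induction m using Nat.strong_induction_on with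
  | _ m ih =>
    intro c q hqn hc
    have hpt : ∀ x ∈ ({p} : Set ↥(CohB1.ProjSpace n k)), IsClosed ({x} : Set ↥(CohB1.ProjSpace n k)) := fun x hx => hx ▸ hp
    have hv : ∀ (c' : ℤ) (q' : ℕ), c' < 0 → q' + 1 ≤ n → Subsingleton (Coh.HH X (Synt29.BlowPts.pO π c') q') :=
      fun c' q' hc' hq' => Synt29.BlowPts.hh_vanish ({p} : Set _) (Set.finite_singleton p) hpt hp (by omega) hπ c' q'
        (fun h => by omega) (fun h => by omega)
    by_cases hsmall : q + 1 < n ∨ m < n
    · exact hh_easy hp hπ hn hT c m q (by omega) (hv c q (by omega) hqn)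
    obtain ⟨f, ⟨ef⟩⟩ := exists_proj hp hπ
    let F := Synt29.BlowPts.pO π (c + m)
    let tw : Multiplicative ℤ →* PicF.Cl X := (pullHom f).comp (SeesawX.PnFibre.twistHom n k)
    let pw : Multiplicative ℤ →* PicF.Cl X := (pullHom π).comp (SeesawX.PnFibre.twistHom n k)
    let I := BlowUp.exceptional π (Synt29.BlowPts.J ({p} : Set _) hp)
    have h1 : tw (Multiplicative.ofAdd 1) = PicF.cl (ClSub.idealMod I) * pw (Multiplicative.ofAdd 1) := by
      show PicF.cl ((Scheme.Modules.pullback f).obj (Twist.twistProjSpace n k 1)) = _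
      rw [cl_eq_iff.2 ⟨ef⟩, cl_tensor]
      rfl
    have hneg : ∀ j : ℕ, tw (Multiplicative.ofAdd (-(j : ℤ))) =
        PicF.cl T ^ j * pw (Multiplicative.ofAdd (-(j : ℤ))) := fun j => by
      have hu : IsUnit (tw (Multiplicative.ofAdd (j : ℤ))) := (Group.isUnit _).map tw
      refine hu.mul_left_cancel ?_
      rw [← map_mul, ← ofAdd_add, add_neg_cancel, ofAdd_zero, map_one,
        show Multiplicative.ofAdd (j : ℤ) = Multiplicative.ofAdd (1 : ℤ) ^ j by rw [← ofAdd_nsmul]; simp,
        map_pow, h1, mul_pow, mul_mul_mul_comm, ← mul_pow, hT, one_pow, one_mul, ← map_pow, ← map_mul,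
        ← ofAdd_nsmul, ← ofAdd_add]
      simp
    have hcls : ∀ (j : ℕ), PicF.cl (qM f F (-(j : ℤ))) = PicF.cl (MT π T (c + m - j) j) := fun j => by
      show tw (Multiplicative.ofAdd (-(j : ℤ))) * pw (Multiplicative.ofAdd (c + (m : ℤ))) = _
      rw [hneg, cl_tensor, cl_tensorPow, mul_comm (PicF.cl T ^ j), mul_right_comm, ← map_mul, ← ofAdd_add,
        show -(j : ℤ) + (c + m) = c + m - j by ring]
      rfl
    obtain ⟨em⟩ := cl_eq_iff.1 (hcls m)
    have key := subsingleton_pull_descend f F (-(m : ℤ)) q (by omega) fun r hr => by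
      obtain ⟨e⟩ := cl_eq_iff.1 (hcls (m - (r + 1)))
      rw [show -((m - (r + 1) : ℕ) : ℤ) = -(m : ℤ) + ((r + 1 : ℕ) : ℤ) by omega] at e
      refine QCoh.subsingleton_HH_of_iso e.symm (q - r) ?_
      rcases Nat.eq_zero_or_pos r with rfl | hr0
      · exact ih _ (by omega) _ _ (by omega) (by omega)
      · exact hh_easy hp hπ hn hT _ _ _ (by omega) (hv _ _ (by omega) (by omega))
    refine QCoh.subsingleton_HH_of_iso ?_ q key
    rw [show c = c + (m : ℤ) - (m : ℤ) by ring]
    exact em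

end Groth.Agent.H28.Blow1

end
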